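import Groth.Agent.MultTori.K441.Defs
import Groth.Agent.FlatB.GenFibIrr

/-!
# RQ-D3: spreading out of a geometrically integral algebra, prime fibres over prime elements
-/

set_option autoImplicit false
universe u
open TensorProduct

namespace K87.Spread

section

variable {R F D : Type u} [CommRing R] [IsDomain R] [Field F] [Algebra R F]
    [IsFractionRing R F] [CommRing D] [Algebra F D] [Algebra R D] [IsScalarTower R F D]

/-- A finite type model. -/
theorem exists_model [hft : Algebra.FiniteType F D] :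
    ∃ B₀ : Subalgebra R D, B₀.FG ∧ ∀ d : D, ∃ a : R, a ≠ 0 ∧ a • d ∈ B₀ := by
  obtain ⟨S, hS⟩ := hft.out
  refine ⟨Algebra.adjoin R (S : Set D), ⟨S, rfl⟩, fun d => ?_⟩
  have hd : d ∈ Algebra.adjoin F (S : Set D) := by rw [hS]; trivial
  induction hd using Algebra.adjoin_induction with
  | mem x hx => exact ⟨1, one_ne_zero, by rw [one_smul]; exact Algebra.subset_adjoin hx⟩
  | algebraMap x =>
    obtain ⟨y, c, hc, rfl⟩ := IsFractionRing.div_surjective (A := R) x
    have hc0 : algebraMap R F c ≠ 0 := by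
      rw [Ne, IsFractionRing.to_map_eq_zero_iff]
      exact nonZeroDivisors.ne_zero hc
    refine ⟨c, nonZeroDivisors.ne_zero hc, ?_⟩
    have h1 : c • algebraMap F D (algebraMap R F y / algebraMap R F c) = algebraMap R D y := by
      rw [Algebra.smul_def, IsScalarTower.algebraMap_apply R F D c, ← map_mul, mul_div_cancel₀ _ hc0,
        ← IsScalarTower.algebraMap_apply]
    rw [h1]
    exact Subalgebra.algebraMap_mem _ _
  | add x y _ _ hx hy =>
    obtain ⟨a, ha, hax⟩ := hx
    obtain ⟨b, hb, hby⟩ := hy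
    refine ⟨a * b, mul_ne_zero ha hb, ?_⟩
    rw [smul_add]
    refine add_mem ?_ ?_
    · rw [mul_comm, mul_smul]
      exact Subalgebra.smul_mem _ hax _
    · rw [mul_smul]
      exact Subalgebra.smul_mem _ hby _
  | mul x y _ _ hx hy =>
    obtain ⟨a, ha, hax⟩ := hx
    obtain ⟨b, hb, hby⟩ := hy
    refine ⟨a * b, mul_ne_zero ha hb, ?_⟩
    rw [← smul_mul_smul_comm]
    exact mul_mem hax hby

variable (F)

include F in
theorem isUnit_of_ne_zero {a : R} (ha : a ≠ 0) : IsUnit (algebraMap R D a) := by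
  rw [IsScalarTower.algebraMap_apply R F D]
  refine IsUnit.map _ (isUnit_iff_ne_zero.mpr ?_)
  rw [Ne, IsFractionRing.to_map_eq_zero_iff]
  exact ha

include F in
theorem isLocalization (B₀ : Subalgebra R D) (h : ∀ d : D, ∃ a : R, a ≠ 0 ∧ a • d ∈ B₀) :
    IsLocalization (Algebra.algebraMapSubmonoid B₀ (nonZeroDivisors R)) D where
  map_units := by
    rintro ⟨_, a, ha, rfl⟩
    exact (isUnit_of_ne_zero F (nonZeroDivisors.ne_zero ha) : IsUnit (algebraMap R D a))
  surj := by
    intro d
    obtain ⟨a, ha, had⟩ := h d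
    refine ⟨⟨⟨a • d, had⟩, ⟨algebraMap R B₀ a, a, mem_nonZeroDivisors_of_ne_zero ha, rfl⟩⟩, ?_⟩
    change d * algebraMap R D a = a • d
    rw [Algebra.smul_def, mul_comm]
  exists_of_eq := by
    intro x y hxy
    exact ⟨1, by rw [Subtype.ext hxy]⟩

theorem isDomain_generic (B₀ : Subalgebra R D) (h : ∀ d : D, ∃ a : R, a ≠ 0 ∧ a • d ∈ B₀)
    (Ω : Type u) [Field Ω] [Algebra F Ω] [Algebra R Ω] [IsScalarTower R F Ω] [IsDomain (Ω ⊗[F] D)] :
    IsDomain (Ω ⊗[R] B₀) := by
  have h1 := isLocalization F B₀ h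
  have h2 : Algebra.IsPushout R B₀ F D :=
    (Algebra.isLocalization_iff_isPushout (nonZeroDivisors R) F (T := B₀) (B := D)).1 h1
  have h3 : Algebra.IsPushout R F B₀ D := h2.symm
  let e₁ : F ⊗[R] B₀ ≃ₐ[F] D := Algebra.IsPushout.equiv R F B₀ D
  let e₂ : Ω ⊗[F] (F ⊗[R] B₀) ≃ₐ[Ω] Ω ⊗[R] B₀ := Algebra.TensorProduct.cancelBaseChange R F Ω Ω B₀
  let e₃ : Ω ⊗[F] (F ⊗[R] B₀) ≃ₐ[Ω] Ω ⊗[F] D := Algebra.TensorProduct.congr AlgEquiv.refl e₁
  exact (e₂.symm.trans e₃).toMulEquiv.isDomain

end

/-- Spreading out of geometric integrality. -/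
theorem exists_isDomain (A B : Type u) [CommRing A] [IsDomain A] [CommRing B] [Algebra A B]
    [Algebra.FiniteType A B] (Ω : Type u) [Field Ω] [IsAlgClosed Ω] [Algebra A Ω]
    (hA : Function.Injective (algebraMap A Ω)) [IsDomain (Ω ⊗[A] B)] :
    ∃ a : A, a ≠ 0 ∧ ∀ (L : Type u) [Field L] [Algebra A L], algebraMap A L a ≠ 0 →
      IsDomain (L ⊗[A] B) := by
  obtain ⟨a, ha, h⟩ := Groth.Agent.FlatB.GenFibIrr.exists_irreducible B Ω hA
  obtain ⟨b, hb, h'⟩ := Groth.Agent.FlatB.GenFibRed.exists_isReduced B Ω hA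
  refine ⟨a * b, mul_ne_zero ha hb, fun L _ _ hL => ?_⟩
  rw [map_mul] at hL
  have h1 := h L (left_ne_zero_of_mul hL)
  have h2 := h' L (right_ne_zero_of_mul hL)
  have h3 := PrimeSpectrum.irreducibleSpace_iff_isPrime_nilradical.mp h1
  rw [nilradical_eq_zero] at h3
  exact IsDomain.of_bot_isPrime _

section

variable {R D : Type u} [CommRing R] [CommRing D] [Algebra R D]

/-- The elements of `D` which are in `B₀` after multiplication by a power of `r`. -/
def sat (B₀ : Subalgebra R D) (r : R) : Subalgebra R D where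
  carrier := {d | ∃ n : ℕ, r ^ n • d ∈ B₀}
  mul_mem' := by
    rintro x y ⟨n, hn⟩ ⟨m, hm⟩
    refine ⟨n + m, ?_⟩
    rw [pow_add, ← smul_mul_smul_comm]
    exact mul_mem hn hm
  add_mem' := by
    rintro x y ⟨n, hn⟩ ⟨m, hm⟩
    refine ⟨n + m, ?_⟩
    rw [smul_add, pow_add]
    refine add_mem ?_ ?_
    · rw [mul_comm, mul_smul]
      exact Subalgebra.smul_mem _ hn _
    · rw [mul_smul]
      exact Subalgebra.smul_mem _ hm _
  algebraMap_mem' := fun a => ⟨0, by rw [pow_zero, one_smul]; exact Subalgebra.algebraMap_mem _ _⟩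

theorem le_sat (B₀ : Subalgebra R D) (r : R) : B₀ ≤ sat B₀ r := fun d hd =>
  ⟨0, by rw [pow_zero, one_smul]; exact hd⟩

theorem isUnit_sat {B₀ : Subalgebra R D} {r : R} (hr : IsUnit (algebraMap R D r)) :
    IsUnit (algebraMap R (sat B₀ r) r) := by
  obtain ⟨v, hv⟩ := hr.exists_right_inv
  have hv' : v ∈ sat B₀ r := ⟨1, by rw [pow_one, Algebra.smul_def, hv]; exact one_mem _⟩
  exact IsUnit.of_mul_eq_one ⟨v, hv'⟩ (Subtype.ext hv)

theorem isLocalizedModule {B₀ : Subalgebra R D} {r : R} (hr : IsUnit (algebraMap R D r)) :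
    IsLocalizedModule (Submonoid.powers r) (Subalgebra.inclusion (le_sat B₀ r)).toLinearMap where
  map_units := by
    rintro ⟨_, n, rfl⟩
    have h1 : IsUnit (algebraMap R (sat B₀ r) (r ^ n)) := by
      rw [map_pow]
      exact (isUnit_sat hr).pow n
    rw [← AlgHom.commutes (Algebra.lmul R (sat B₀ r))]
    exact h1.map (Algebra.lmul R (sat B₀ r))
  surj := by
    rintro ⟨d, n, hn⟩
    exact ⟨⟨⟨r ^ n • d, hn⟩, ⟨r ^ n, n, rfl⟩⟩, rfl⟩
  exists_of_eq := by
    intro x y hxy
    refine ⟨1, ?_⟩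
    have h1 := Subalgebra.inclusion_injective (le_sat B₀ r) hxy
    rw [h1]

theorem fg_sat {B₀ : Subalgebra R D} (h : B₀.FG) {r : R} (hr : IsUnit (algebraMap R D r)) :
    Algebra.FiniteType R (sat B₀ r) := by
  obtain ⟨v, hv⟩ := hr.exists_right_inv
  obtain ⟨S, hS⟩ := h
  rw [← Subalgebra.fg_iff_finiteType]
  classical
  refine ⟨insert v S, le_antisymm ?_ ?_⟩
  · rw [Algebra.adjoin_le_iff]
    intro x hx
    rw [Finset.coe_insert] at hx
    rcases hx with rfl | hx
    · exact ⟨1, by rw [pow_one, Algebra.smul_def, hv]; exact one_mem _⟩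
    · refine le_sat B₀ r ?_
      rw [← hS]
      exact Algebra.subset_adjoin hx
  · rintro x ⟨n, hn⟩
    have h1 : x = v ^ n * (r ^ n • x) := by
      rw [Algebra.smul_def, map_pow, ← mul_assoc, ← mul_pow, mul_comm v, hv, one_pow, one_mul]
    rw [h1]
    refine mul_mem (pow_mem (Algebra.subset_adjoin (by simp)) n) ?_
    rw [← hS] at hn
    exact Algebra.adjoin_mono (by simp) hn

end

/-- **RQ-D3** (spreading out with integral fibres). -/
theorem exists_spread (R F D : Type u) [CommRing R] [IsDomain R] [IsNoetherianRing R] [Field F] [Algebra R F]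
    [IsFractionRing R F] [CommRing D] [Algebra F D] [Algebra R D] [IsScalarTower R F D]
    [Algebra.FiniteType F D] (hD : ∀ (E : Type u) [Field E] [Algebra F E], IsDomain (E ⊗[F] D)) :
    ∃ (r : R) (_ : r ≠ 0) (B : Subalgebra R D), Algebra.FiniteType R B ∧
      (∀ d : D, ∃ a : R, a ≠ 0 ∧ a • d ∈ B) ∧
      (∀ x : F, algebraMap F D x ∈ B ↔ ∃ n : ℕ, ∃ y : R, r ^ n • x = algebraMap R F y) ∧
      ∀ p : R, Prime p → ¬ p ∣ r → Prime (algebraMap R B p) := by
  obtain ⟨B₀, hfg, hB₀⟩ := exists_model (R := R) (F := F) (D := D)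
  have hft : Algebra.FiniteType R B₀ := B₀.fg_iff_finiteType.mp hfg
  let Ω := AlgebraicClosure F
  have hΩD : IsDomain (Ω ⊗[F] D) := hD Ω
  have hΩB : IsDomain (Ω ⊗[R] B₀) := isDomain_generic F B₀ hB₀ Ω
  have hRF : Function.Injective (algebraMap R F) := IsFractionRing.injective R F
  have hRΩ : Function.Injective (algebraMap R Ω) := by
    rw [IsScalarTower.algebraMap_eq R F Ω]
    exact (algebraMap F Ω).injective.comp hRF
  have hDnt : Nontrivial D := by
    have h1 : Nontrivial (F ⊗[F] D) := (hD F).toNontrivial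
    exact (TensorProduct.lid F D).symm.toEquiv.nontrivial
  have hRD : Function.Injective (algebraMap R D) := by
    rw [IsScalarTower.algebraMap_eq R F D]
    exact (algebraMap F D).injective.comp hRF
  obtain ⟨a, ha, h1⟩ := exists_isDomain R B₀ Ω hRΩ
  obtain ⟨b, hb, h2⟩ := Groth.Agent.FlatB.GenFibA.exists_free R B₀
  obtain ⟨c, hc, h3⟩ := Groth.Agent.FlatB.GenFibA.exists_nontrivial (A := R) B₀ Ω hRΩ
  let r : R := a * b * c
  have hr : r ≠ 0 := mul_ne_zero (mul_ne_zero ha hb) hc
  have hrD : IsUnit (algebraMap R D r) := isUnit_of_ne_zero F hr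
  let T := Localization.Away r
  have hrT : IsUnit (algebraMap R T r) := IsLocalization.Away.algebraMap_isUnit r
  have hbT : IsUnit (algebraMap R T b) := by
    have : algebraMap R T r = algebraMap R T b * algebraMap R T (a * c) := by
      rw [← map_mul]
      congr 1
      ring
    exact isUnit_of_mul_isUnit_left (this ▸ hrT)
  have hcT : IsUnit (algebraMap R T c) := by
    have : algebraMap R T r = algebraMap R T c * algebraMap R T (a * b) := by
      rw [← map_mul]
      congr 1
      ring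
    exact isUnit_of_mul_isUnit_left (this ▸ hrT)
  have hTinj : Function.Injective (algebraMap R T) :=
    IsLocalization.injective T (powers_le_nonZeroDivisors_of_noZeroDivisors hr)
  have hTd : IsDomain T := IsLocalization.isDomain_localization
    (powers_le_nonZeroDivisors_of_noZeroDivisors hr)
  have hfree : Module.Free T (T ⊗[R] B₀) := (h2 T hbT).1
  have hnt : Nontrivial (T ⊗[R] B₀) := h3 T hcT
  have hloc := isLocalizedModule (B₀ := B₀) hrD
  let B := sat B₀ r
  have hTR : Module.Flat R T := IsLocalization.flat T (Submonoid.powers r)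
  have hflat : Module.Flat R B := by
    have h4 : Module.Flat R (T ⊗[R] B₀) := Module.Flat.trans R T (T ⊗[R] B₀)
    have e : T ⊗[R] B₀ ≃ₗ[R] B := ((LocalizedModule.equivTensorProduct (Submonoid.powers r) B₀).symm.restrictScalars R).trans
      (IsLocalizedModule.iso (Submonoid.powers r) (Subalgebra.inclusion (le_sat B₀ r)).toLinearMap)
    exact Module.Flat.of_linearEquiv e.symm
  refine ⟨r, hr, B, fg_sat hfg hrD, fun d => ?_, fun x => ⟨?_, ?_⟩, fun p hp hpr => ?_⟩
  · obtain ⟨a', ha', h⟩ := hB₀ d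
    exact ⟨a', ha', le_sat B₀ r h⟩
  · rintro ⟨n, hn⟩
    obtain ⟨y, s, hs, hx⟩ := IsFractionRing.div_surjective (A := R) (r ^ n • x)
    have hs0 : algebraMap R F s ≠ 0 := by
      rw [Ne, IsFractionRing.to_map_eq_zero_iff]
      exact nonZeroDivisors.ne_zero hs
    -- `s • β = y • 1` in `B₀`
    let β : B₀ := ⟨r ^ n • algebraMap F D x, hn⟩
    have h5 : s • β = y • (1 : B₀) := by
      apply Subtype.ext
      change s • (r ^ n • algebraMap F D x) = y • (1 : D)
      have h6 : r ^ n • algebraMap F D x = algebraMap F D (r ^ n • x) := by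
        rw [Algebra.smul_def, Algebra.smul_def, map_mul, ← IsScalarTower.algebraMap_apply]
      rw [h6, ← hx, Algebra.smul_def, Algebra.smul_def, mul_one, IsScalarTower.algebraMap_apply R F D s,
        ← map_mul, mul_div_cancel₀ _ hs0, ← IsScalarTower.algebraMap_apply]
    have h6 : algebraMap T (T ⊗[R] B₀) (algebraMap R T y) ∈
        Ideal.map (algebraMap T (T ⊗[R] B₀)) (Ideal.span {algebraMap R T s}) := by
      rw [Ideal.map_span, Set.image_singleton, Ideal.mem_span_singleton]
      refine ⟨(1 : T) ⊗ₜ[R] β, ?_⟩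
      rw [Algebra.TensorProduct.algebraMap_apply, Algebra.TensorProduct.algebraMap_apply,
        Algebra.TensorProduct.tmul_mul_tmul, Algebra.algebraMap_self, RingHom.id_apply, RingHom.id_apply, one_mul, mul_one,
        Algebra.algebraMap_eq_smul_one, Algebra.algebraMap_eq_smul_one, TensorProduct.smul_tmul,
        TensorProduct.smul_tmul, h5]
    have h7 : algebraMap R T y ∈ Ideal.span {algebraMap R T s} := by
      rw [← Ideal.comap_map_eq_self_of_faithfullyFlat (B := T ⊗[R] B₀) (Ideal.span {algebraMap R T s})]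
      exact h6
    obtain ⟨t, ht⟩ := Ideal.mem_span_singleton.1 h7
    obtain ⟨m, z, hz⟩ := IsLocalization.Away.surj r t
    refine ⟨m + n, z, ?_⟩
    have h8 : r ^ m * y = s * z := by
      apply hTinj
      rw [map_mul, map_mul, ht, map_pow, ← hz]
      ring
    rw [pow_add, mul_smul, ← hx, Algebra.smul_def, mul_div_assoc', div_eq_iff hs0, ← map_mul, ← map_mul, h8, mul_comm]
  · rintro ⟨n, y, hy⟩
    refine ⟨n, ?_⟩
    have h6 : r ^ n • algebraMap F D x = algebraMap F D (r ^ n • x) := by
      rw [Algebra.smul_def, Algebra.smul_def, map_mul, ← IsScalarTower.algebraMap_apply]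
    rw [h6, hy, ← IsScalarTower.algebraMap_apply]
    exact Subalgebra.algebraMap_mem _ _
  · have hprime : (Ideal.span {p} : Ideal R).IsPrime := (Ideal.span_singleton_prime hp.ne_zero).2 hp
    let Q := R ⧸ (Ideal.span {p} : Ideal R)
    let L := FractionRing Q
    have hL : ∀ x : R, algebraMap R L x = 0 ↔ p ∣ x := by
      intro x
      rw [IsScalarTower.algebraMap_apply R Q L, map_eq_zero_iff _ (IsFractionRing.injective Q L),
        Ideal.Quotient.algebraMap_eq, Ideal.Quotient.eq_zero_iff_mem, Ideal.mem_span_singleton]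
    have hpa : ¬ p ∣ a := fun h => hpr ((h.mul_right b).mul_right c)
    have hdom : IsDomain (L ⊗[R] B₀) := h1 L (by rw [Ne, hL]; exact hpa)
    have hrL : algebraMap R L r ≠ 0 := by rw [Ne, hL]; exact hpr
    -- an element of `B₀` vanishing in the fibre is divisible by `p` in `B`
    have hdiv : ∀ x : B₀, (1 : L) ⊗ₜ[R] x = 0 → algebraMap R B p ∣ Subalgebra.inclusion (le_sat B₀ r) x := by
      intro x hx
      have h4 : (1 : L) ⊗ₜ[R] (Subalgebra.inclusion (le_sat B₀ r) x) = (0 : L ⊗[R] B) := by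
        have := congrArg (LinearMap.lTensor L (Subalgebra.inclusion (le_sat B₀ r)).toLinearMap) hx
        rwa [map_zero] at this
      have h5 : Function.Injective (LinearMap.rTensor B (Algebra.linearMap Q L |>.restrictScalars R)) :=
        Module.Flat.rTensor_preserves_injective_linearMap _ (IsFractionRing.injective Q L)
      have h6 : (1 : Q) ⊗ₜ[R] (Subalgebra.inclusion (le_sat B₀ r) x) = (0 : Q ⊗[R] B) := by
        apply h5
        rw [map_zero]
        change (algebraMap Q L 1) ⊗ₜ[R] _ = _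
        rw [map_one]
        exact h4
      have h7 := congrArg (TensorProduct.quotTensorEquivQuotSMul B (Ideal.span {p} : Ideal R)) h6
      rw [map_zero] at h7
      have h8 : TensorProduct.quotTensorEquivQuotSMul B (Ideal.span {p} : Ideal R)
          ((1 : Q) ⊗ₜ[R] (Subalgebra.inclusion (le_sat B₀ r) x)) =
          Submodule.Quotient.mk (Subalgebra.inclusion (le_sat B₀ r) x) := by
        have := TensorProduct.quotTensorEquivQuotSMul_mk_tmul (Ideal.span {p} : Ideal R) 1
          (Subalgebra.inclusion (le_sat B₀ r) x)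
        rw [one_smul] at this
        exact this
      rw [h8, Submodule.Quotient.mk_eq_zero, Submodule.ideal_span_singleton_smul] at h7
      obtain ⟨z, -, hz⟩ := h7
      exact ⟨z, by rw [← Algebra.smul_def]; exact hz.symm⟩
    have hpB : algebraMap R B p ≠ 0 := by
      intro h
      have : algebraMap R D p = 0 := congrArg Subtype.val h
      exact hp.ne_zero (hRD (this.trans (map_zero _).symm))
    have hrB : IsUnit (algebraMap R B r) := isUnit_sat hrD
    have key : ∀ (x : B₀) (n : ℕ) (z : B), algebraMap R B p * z =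
        algebraMap R B (r ^ n) * Subalgebra.inclusion (le_sat B₀ r) x → (1 : L) ⊗ₜ[R] x = 0 := by
      rintro x n ⟨z, m, hz⟩ h
      have h4 : p • (⟨r ^ m • z, hz⟩ : B₀) = r ^ (m + n) • x := by
        apply Subtype.ext
        have h5 : algebraMap R D p * z = algebraMap R D (r ^ n) * (x : D) := congrArg Subtype.val h
        change p • (r ^ m • z) = r ^ (m + n) • (x : D)
        rw [smul_comm, Algebra.smul_def p, h5, pow_add, mul_smul, ← Algebra.smul_def]
      have h5 : algebraMap R L (r ^ (m + n)) • ((1 : L) ⊗ₜ[R] x) = 0 := by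
        rw [TensorProduct.smul_tmul', smul_eq_mul, mul_one, Algebra.algebraMap_eq_smul_one,
          TensorProduct.smul_tmul, ← h4, ← TensorProduct.smul_tmul, ← Algebra.algebraMap_eq_smul_one,
          (hL p).2 dvd_rfl, TensorProduct.zero_tmul]
      rcases smul_eq_zero.1 h5 with h6 | h6
      · rw [map_pow] at h6
        exact absurd h6 (pow_ne_zero _ hrL)
      · exact h6
    refine ⟨hpB, fun hu => ?_, fun x y hxy => ?_⟩
    · obtain ⟨u, hu'⟩ := hu.exists_right_inv
      have h4 := key 1 0 u (by rw [hu', pow_zero, map_one, map_one, one_mul])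
      exact one_ne_zero (α := L ⊗[R] B₀) h4
    · obtain ⟨z, hz⟩ := hxy
      obtain ⟨n, hn⟩ := x.2
      obtain ⟨m, hm⟩ := y.2
      let x₀ : B₀ := ⟨r ^ n • (x : D), hn⟩
      let y₀ : B₀ := ⟨r ^ m • (y : D), hm⟩
      have hx₀ : Subalgebra.inclusion (le_sat B₀ r) x₀ = algebraMap R B (r ^ n) * x :=
        Subtype.ext (Algebra.smul_def _ _)
      have hy₀ : Subalgebra.inclusion (le_sat B₀ r) y₀ = algebraMap R B (r ^ m) * y :=
        Subtype.ext (Algebra.smul_def _ _)
      have h4 := key (x₀ * y₀) 0 (algebraMap R B (r ^ n) * algebraMap R B (r ^ m) * z) (by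
        rw [pow_zero, map_one, one_mul, map_mul, hx₀, hy₀]
        linear_combination (-(algebraMap R B (r ^ n) * algebraMap R B (r ^ m))) * hz)
      have h5 : ((1 : L) ⊗ₜ[R] x₀) * ((1 : L) ⊗ₜ[R] y₀) = 0 := by
        rw [Algebra.TensorProduct.tmul_mul_tmul, one_mul]
        exact h4
      rcases mul_eq_zero.1 h5 with h6 | h6
      · left
        have h7 := hdiv x₀ h6
        rw [hx₀, map_pow] at h7
        exact (hrB.pow n).dvd_mul_left.1 h7
      · right
        have h7 := hdiv y₀ h6
        rw [hy₀, map_pow] at h7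
        exact (hrB.pow m).dvd_mul_left.1 h7

end K87.Spread
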